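import Mathlib
import Groth.Prelude.Def_Pi1X

/-!
# Helper lemmas on Galois categories (helper26)

Sections from the terminal object versus fixed points of the fundamental group, and totally split
objects versus trivial action.
-/

set_option linter.style.haveILetI false
set_option autoImplicit false
set_option linter.unusedSectionVars false

namespace Groth.Agent.H26.Galois

open CategoryTheory CategoryTheory.Limits CategoryTheory.PreGaloisCategory

universe u₁ u₂ w w'

variable {D : Type u₁} [Category.{u₂} D] [GaloisCategory D] (F : D ⥤ FintypeCat.{w})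
  [FiberFunctor F]

/-- The fibre of the terminal object is a subsingleton. -/
lemma subsingleton_fiber_terminal : Subsingleton (F.obj (⊤_ D)) := by
  have hT : IsTerminal (F.obj (⊤_ D)) := IsTerminal.isTerminalObj F _ terminalIsTerminal
  refine ⟨fun t t' => ?_⟩
  have h := hT.hom_ext (FintypeCat.homMk (X := FintypeCat.of PUnit.{w+1}) (fun _ => t))
    (FintypeCat.homMk (fun _ => t'))
  exact ConcreteCategory.congr_hom h PUnit.unit

/-- A point of a fibre fixed by the whole fundamental group is the image of a section from the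
terminal object. -/
lemma exists_section_of_fixed (Y : D) (a : F.obj Y) (h : ∀ σ : Aut F, σ • a = a) :
    ∃ s : ⊤_ D ⟶ Y, ∀ t : F.obj (⊤_ D), F.map s t = a := by
  let φ : (functorToAction F).obj (⊤_ D) ⟶ (functorToAction F).obj Y :=
    { hom := FintypeCat.homMk (fun _ => a)
      comm := fun g => by
        apply FintypeCat.hom_ext
        intro t
        exact (h g).symm }
  refine ⟨(functorToAction F).preimage φ, fun t => ?_⟩
  have h2 : F.map ((functorToAction F).preimage φ) = φ.hom := by
    rw [← functorToAction_map, Functor.map_preimage]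
  rw [h2]
  rfl

/-- The image of a section from the terminal object is fixed by the fundamental group. -/
lemma smul_section (Y : D) (s : ⊤_ D ⟶ Y) (t : F.obj (⊤_ D)) (σ : Aut F) :
    σ • F.map s t = F.map s t := by
  rw [mulAction_naturality]
  have := subsingleton_fiber_terminal F
  rw [Subsingleton.elim (σ • t) t]

/-- Every point of the fibre of a finite coproduct of terminal objects comes from a summand. -/
lemma exists_of_fiber_split (n : ℕ) (z : F.obj (∐ fun _ : Fin n => ⊤_ D)) :
    ∃ (j : Fin n) (t : F.obj (⊤_ D)), F.map (Sigma.ι (fun _ : Fin n => ⊤_ D) j) t = z := by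
  obtain ⟨⟨j⟩, t, ht⟩ := Limits.FintypeCat.jointly_surjective
    (Discrete.functor (fun _ : Fin n => ⊤_ D) ⋙ F) _
    (isColimitOfPreserves F (colimit.isColimit (Discrete.functor (fun _ : Fin n => ⊤_ D)))) z
  exact ⟨j, t, ht⟩

/-- The fundamental group acts trivially on the fibre of a totally split object. -/
lemma smul_eq_of_split (Y : D) (n : ℕ) (e : Y ≅ ∐ fun _ : Fin n => ⊤_ D) (σ : Aut F)
    (y : F.obj Y) : σ • y = y := by
  have hy : F.map e.inv (F.map e.hom y) = y := by
    rw [← FintypeCat.comp_apply, ← F.map_comp, e.hom_inv_id, F.map_id, FintypeCat.id_apply]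
  obtain ⟨j, t, ht⟩ := exists_of_fiber_split F n (F.map e.hom y)
  rw [← hy, mulAction_naturality, ← ht, smul_section]

/-- An object on whose fibre the fundamental group acts trivially is totally split. -/
lemma exists_split_of_trivial (Y : D) (h : ∀ (σ : Aut F) (y : F.obj Y), σ • y = y) :
    ∃ n : ℕ, Nonempty (Y ≅ ∐ fun _ : Fin n => ⊤_ D) := by
  classical
  haveI : Fintype (F.obj Y) := Fintype.ofFinite _
  let n := Fintype.card (F.obj Y)
  let e : Fin n ≃ F.obj Y := (Fintype.equivFin _).symm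
  choose s hs using fun i : Fin n => exists_section_of_fixed F Y (e i) (fun σ => h σ _)
  let g : (∐ fun _ : Fin n => ⊤_ D) ⟶ Y := Sigma.desc s
  have hsub := subsingleton_fiber_terminal F
  have hg : ∀ (j : Fin n) (t : F.obj (⊤_ D)),
      F.map g (F.map (Sigma.ι (fun _ : Fin n => ⊤_ D) j) t) = e j := by
    intro j t
    rw [← FintypeCat.comp_apply, ← F.map_comp, Sigma.ι_desc]
    exact hs j t
  have hbij : Function.Bijective (F.map g) := by
    constructor
    · intro z z' hzz'
      obtain ⟨j, t, rfl⟩ := exists_of_fiber_split F n z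
      obtain ⟨j', t', rfl⟩ := exists_of_fiber_split F n z'
      rw [hg, hg] at hzz'
      have hjj : j = j' := e.injective hzz'
      subst hjj
      rw [Subsingleton.elim t t']
    · intro y
      obtain ⟨i, rfl⟩ := e.surjective y
      exact ⟨F.map (Sigma.ι (fun _ : Fin n => ⊤_ D) i) (F.map (terminal.from Y) (e i)), hg i _⟩
  have h1 : IsIso (F.map g) := (ConcreteCategory.isIso_iff_bijective (F.map g)).mpr hbij
  have h2 : IsIso g := isIso_of_reflects_iso g F
  exact ⟨n, ⟨(asIso g).symm⟩⟩

/-- Compactness: if the stabilizers of a family of points cut out a subgroup contained in the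
stabilizer of `z`, then finitely many of them already do. -/
lemma exists_finset_of_stabilizer_le {ι : Type*} (Y : ι → D) (y : ∀ i, F.obj (Y i)) (Z : D)
    (z : F.obj Z) (h : ∀ σ : Aut F, (∀ i, σ • y i = y i) → σ • z = z) :
    ∃ t : Finset ι, ∀ σ : Aut F, (∀ i ∈ t, σ • y i = y i) → σ • z = z := by
  have hopen : ∀ (W : D) (w : F.obj W), IsOpen {σ : Aut F | σ • w = w} := fun W w =>
    (continuous_id.smul continuous_const).isOpen_preimage {w} (isOpen_discrete _)
  have hclosed : ∀ (W : D) (w : F.obj W), IsClosed {σ : Aut F | σ • w = w} := fun W w =>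
    (isClosed_discrete {w}).preimage (continuous_id.smul continuous_const)
  have hK : IsCompact ({σ : Aut F | σ • z = z}ᶜ) := (hopen Z z).isClosed_compl.isCompact
  obtain ⟨t, ht⟩ := hK.elim_finite_subcover (fun i => {σ : Aut F | σ • y i = y i}ᶜ)
    (fun i => (hclosed _ (y i)).isOpen_compl) (by
      intro σ hσ
      by_contra hcon
      apply hσ
      apply h
      intro i
      by_contra hi
      exact hcon (Set.mem_iUnion.mpr ⟨i, hi⟩))
  refine ⟨t, fun σ hσ => ?_⟩
  by_contra hz
  have h1 := ht hz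
  simp only [Set.mem_iUnion] at h1
  obtain ⟨i, hi, hmem⟩ := h1
  exact hmem (hσ i hi)

/-- Finitely many points of fibres of objects `H X` are dominated by a single one. -/
lemma exists_common_point {C : Type*} [Category* C] [GaloisCategory C] (H : C ⥤ D)
    [FiberFunctor (H ⋙ F)] (x₀ : F.obj (H.obj (⊤_ C)))
    (t : Finset (Σ X : C, F.obj (H.obj X))) :
    ∃ (X : C) (x : F.obj (H.obj X)), ∀ σ : Aut F, σ • x = x → ∀ p ∈ t, σ • p.2 = p.2 := by
  classical
  induction t using Finset.induction_on with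
  | empty => exact ⟨⊤_ C, x₀, fun σ _ p hp => absurd hp (Finset.notMem_empty p)⟩
  | insert p t hp ih =>
    obtain ⟨X, x, hx⟩ := ih
    obtain ⟨X₁, x₁⟩ := p
    obtain ⟨z, hz1, hz2⟩ : ∃ z : F.obj (H.obj (X ⨯ X₁)),
        F.map (H.map prod.fst) z = x ∧ F.map (H.map prod.snd) z = x₁ :=
      ⟨(fiberBinaryProductEquiv (H ⋙ F) X X₁).symm (x, x₁),
        fiberBinaryProductEquiv_symm_fst_apply (H ⋙ F) x x₁,
        fiberBinaryProductEquiv_symm_snd_apply (H ⋙ F) x x₁⟩
    refine ⟨X ⨯ X₁, z, fun σ hσ q hq => ?_⟩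
    have h1 : σ • x = x := by
      rw [← hz1, mulAction_naturality, hσ]
    have h2 : σ • x₁ = x₁ := by
      rw [← hz2, mulAction_naturality, hσ]
    rcases Finset.mem_insert.mp hq with rfl | hq'
    · exact h2
    · exact hx σ h1 q hq'

/-- A pointed connected object maps to any pointed object whose point has a larger stabilizer. -/
lemma exists_hom_of_stabilizer_le (Y Z : D) [IsConnected Y] (y : F.obj Y) (z : F.obj Z)
    (h : ∀ σ : Aut F, σ • y = y → σ • z = z) : ∃ q : Y ⟶ Z, F.map q y = z := by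
  have htr : ∀ w : F.obj Y, ∃ σ : Aut F, σ • y = w := fun w =>
    MulAction.exists_smul_eq (Aut F) y w
  choose τ hτ using htr
  have key : ∀ (σ σ' : Aut F), σ • y = σ' • y → σ • z = σ' • z := by
    intro σ σ' hσ
    have h1 : (σ'⁻¹ * σ) • y = y := by rw [mul_smul, hσ, inv_smul_smul]
    have h2 := h _ h1
    rw [mul_smul] at h2
    calc σ • z = σ' • (σ'⁻¹ • (σ • z)) := (smul_inv_smul σ' _).symm
      _ = σ' • z := by rw [h2]
  let φ : (functorToAction F).obj Y ⟶ (functorToAction F).obj Z :=
    { hom := FintypeCat.homMk (fun w => τ w • z)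
      comm := fun g => by
        apply FintypeCat.hom_ext
        intro (w : F.obj Y)
        show τ (g • w) • z = g • (τ w • z)
        rw [← mul_smul]
        apply key
        rw [hτ, mul_smul, hτ] }
  refine ⟨(functorToAction F).preimage φ, ?_⟩
  have h2 : F.map ((functorToAction F).preimage φ) = φ.hom := by
    rw [← functorToAction_map, Functor.map_preimage]
  rw [h2]
  show τ y • z = z
  exact h _ (hτ y)

/-- The two canonical points of the fibre of `⊤ ⨿ ⊤` are distinct. -/
lemma inl_ne_inr (t₀ : F.obj (⊤_ D)) :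
    F.map (coprod.inl : ⊤_ D ⟶ (⊤_ D) ⨿ (⊤_ D)) t₀ ≠ F.map (coprod.inr : ⊤_ D ⟶ (⊤_ D) ⨿ (⊤_ D)) t₀ := by
  intro heq
  have hsub := subsingleton_fiber_terminal F
  have hcard1 : Nat.card (F.obj (⊤_ D)) = 1 := Nat.card_of_subsingleton t₀
  have hcard : Nat.card (F.obj ((⊤_ D) ⨿ (⊤_ D))) = 2 := by
    rw [card_fiber_coprod_eq_sum, hcard1]
  have hall : ∀ z : F.obj ((⊤_ D) ⨿ (⊤_ D)),
      z = F.map (coprod.inl : ⊤_ D ⟶ (⊤_ D) ⨿ (⊤_ D)) t₀ := by
    intro z
    obtain ⟨⟨j⟩, y, hy⟩ := Limits.FintypeCat.jointly_surjective (pair (⊤_ D) (⊤_ D) ⋙ F) _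
      (isColimitOfPreserves F (colimit.isColimit (pair (⊤_ D) (⊤_ D)))) z
    cases j
    · have hyt : y = t₀ := hsub.elim y t₀
      rw [hyt] at hy
      exact hy.symm
    · have hyt : y = t₀ := hsub.elim y t₀
      rw [hyt] at hy
      rw [heq]
      exact hy.symm
  have hss : Subsingleton (F.obj ((⊤_ D) ⨿ (⊤_ D))) :=
    ⟨fun a b => (hall a).trans (hall b).symm⟩
  have h1 : Nat.card (F.obj ((⊤_ D) ⨿ (⊤_ D))) = 1 :=
    Nat.card_of_subsingleton (F.map (coprod.inl : ⊤_ D ⟶ (⊤_ D) ⨿ (⊤_ D)) t₀)
  omega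

/-- If `H` is full (and exact), the fundamental group of the target acts transitively on the fibre of
`H X` for `X` connected. -/
lemma exists_smul_eq_of_full {C : Type*} [Category* C] [GaloisCategory C] (H : C ⥤ D) [H.Full]
    [FiberFunctor (H ⋙ F)] (X : C) [IsConnected X] (x y : F.obj (H.obj X)) :
    ∃ σ : Aut F, σ • x = y := by
  classical
  obtain ⟨t₀⟩ : Nonempty (F.obj (H.obj (⊤_ C))) := ⟨F.map (H.map (terminal.from X)) x⟩
  have hsub : Subsingleton (F.obj (H.obj (⊤_ C))) := subsingleton_fiber_terminal (H ⋙ F)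
  set b₁ : F.obj (H.obj ((⊤_ C) ⨿ (⊤_ C))) := F.map (H.map coprod.inl) t₀ with hb₁
  set b₂ : F.obj (H.obj ((⊤_ C) ⨿ (⊤_ C))) := F.map (H.map coprod.inr) t₀ with hb₂
  have hne : b₁ ≠ b₂ := inl_ne_inr (H ⋙ F) t₀
  have hfix₁ : ∀ σ : Aut F, σ • b₁ = b₁ := fun σ => by
    rw [hb₁, mulAction_naturality, hsub.elim (σ • t₀) t₀]
  have hfix₂ : ∀ σ : Aut F, σ • b₂ = b₂ := fun σ => by
    rw [hb₂, mulAction_naturality, hsub.elim (σ • t₀) t₀]
  have hfix₁' : ∀ τ : Aut (H ⋙ F), τ.hom.app ((⊤_ C) ⨿ (⊤_ C)) b₁ = b₁ := fun τ => by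
    have h := FunctorToFintypeCat.naturality (H ⋙ F) (H ⋙ F) τ.hom
      (coprod.inl : ⊤_ C ⟶ (⊤_ C) ⨿ (⊤_ C)) t₀
    have h' : τ.hom.app (⊤_ C) t₀ = t₀ := hsub.elim _ _
    rw [h'] at h
    exact h
  let O : Set (F.obj (H.obj X)) := {y | ∃ σ : Aut F, σ • x = y}
  let χ : F.obj (H.obj X) → F.obj (H.obj ((⊤_ C) ⨿ (⊤_ C))) := fun y => if y ∈ O then b₁ else b₂
  have hO : ∀ (σ : Aut F) (y : F.obj (H.obj X)), σ • y ∈ O ↔ y ∈ O := by
    intro σ y
    constructor
    · rintro ⟨ρ, hρ⟩
      exact ⟨σ⁻¹ * ρ, by rw [mul_smul, hρ, inv_smul_smul]⟩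
    · rintro ⟨ρ, hρ⟩
      exact ⟨σ * ρ, by rw [mul_smul, hρ]⟩
  let φ : (functorToAction F).obj (H.obj X) ⟶ (functorToAction F).obj (H.obj ((⊤_ C) ⨿ (⊤_ C))) :=
    { hom := FintypeCat.homMk χ
      comm := fun g => by
        apply FintypeCat.hom_ext
        intro (w : F.obj (H.obj X))
        show χ (g • w) = g • χ w
        simp only [χ]
        by_cases hw : w ∈ O
        · rw [if_pos hw, if_pos ((hO g w).mpr hw), hfix₁]
        · rw [if_neg hw, if_neg (fun h => hw ((hO g w).mp h)), hfix₂] }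
  let m : H.obj X ⟶ H.obj ((⊤_ C) ⨿ (⊤_ C)) := (functorToAction F).preimage φ
  have hm : F.map m = φ.hom := by
    rw [← functorToAction_map, Functor.map_preimage]
  let c : X ⟶ (⊤_ C) ⨿ (⊤_ C) := H.preimage m
  have hc : F.map (H.map c) = FintypeCat.homMk χ := by
    rw [Functor.map_preimage, hm]
    rfl
  have htr : ∀ x' y' : (H ⋙ F).obj X, ∃ τ : Aut (H ⋙ F), τ.hom.app X x' = y' := fun x' y' =>
    MulAction.exists_smul_eq (Aut (H ⋙ F)) x' y'
  obtain ⟨τ, hτ⟩ := htr x y
  have h1 : χ y = b₁ := by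
    have h2 := FunctorToFintypeCat.naturality (H ⋙ F) (H ⋙ F) τ.hom c x
    rw [hτ] at h2
    have h3 : (H ⋙ F).map c = FintypeCat.homMk χ := hc
    rw [h3] at h2
    have hx : χ x = b₁ := if_pos ⟨1, one_smul _ _⟩
    have h4 : τ.hom.app ((⊤_ C) ⨿ (⊤_ C)) (χ x) = χ y := h2
    rw [hx, hfix₁'] at h4
    exact h4.symm
  by_contra hcon
  have h5 : χ y = b₂ := if_neg hcon
  exact hne (h1.symm.trans h5)

/-- An object with a point whose orbit is the whole fibre is connected. -/
lemma isConnected_of_transitive (Y : D) (y : F.obj Y)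
    (h : ∀ y' : F.obj Y, ∃ σ : Aut F, σ • y = y') : IsConnected Y := by
  refine ⟨not_initial_of_inhabited F y, ?_⟩
  intro Z i _ hZ
  obtain ⟨z⟩ := (not_initial_iff_fiber_nonempty F Z).mp hZ
  have hinj : Function.Injective (F.map i) :=
    ConcreteCategory.injective_of_mono_of_preservesPullback (F.map i)
  have hsurj : Function.Surjective (F.map i) := by
    intro y'
    obtain ⟨σ₁, h1⟩ := h (F.map i z)
    obtain ⟨σ₂, h2⟩ := h y'
    refine ⟨(σ₂ * σ₁⁻¹) • z, ?_⟩
    rw [← mulAction_naturality, ← h1, mul_smul, inv_smul_smul, h2]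
  apply isIso_of_mono_of_eq_card_fiber F i
  exact Nat.card_eq_of_bijective _ ⟨hinj, hsurj⟩

include F in
/-- An exact functor of Galois categories preserving connected objects reflects isomorphisms. -/
lemma reflectsIsomorphisms_of_preserves_connected {C : Type*} [Category* C] [GaloisCategory C]
    (G : C ⥤ FintypeCat.{w'}) [FiberFunctor G]
    (H : C ⥤ D) [PreservesFiniteLimits H] [PreservesFiniteColimits H]
    (hconn : ∀ X : C, PreGaloisCategory.IsConnected X → PreGaloisCategory.IsConnected (H.obj X)) :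
    H.ReflectsIsomorphisms := by
  have hinit : ∀ Z : C, IsEmpty (F.obj (H.obj Z)) → IsEmpty (G.obj Z) := by
    intro Z hZ
    by_contra hne
    rw [not_isEmpty_iff] at hne
    obtain ⟨x⟩ := hne
    obtain ⟨Z₀, i, z₀, -, hc, -⟩ := fiber_in_connected_component G Z x
    haveI := hconn Z₀ hc
    obtain ⟨y⟩ := nonempty_fiber_of_isConnected F (H.obj Z₀)
    exact hZ.false (F.map (H.map i) y)
  have hmono : ∀ {X Y : C} (i : X ⟶ Y) [Mono i], IsIso (H.map i) → IsIso i := by
    intro X Y i _ hi
    obtain ⟨Z, u, ⟨hcolim⟩⟩ := PreGaloisCategory.monoInducesIsoOnDirectSummand i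
    let e : X ⨿ Z ≅ Y := (colimit.isColimit (pair X Z)).coconePointUniqueUpToIso hcolim
    have h1 : Nat.card (G.obj Y) = Nat.card (G.obj X) + Nat.card (G.obj Z) := by
      rw [← card_fiber_eq_of_iso G e, card_fiber_coprod_eq_sum]
    let e' : H.obj X ⨿ H.obj Z ≅ H.obj Y := PreservesColimitPair.iso H X Z ≪≫ H.mapIso e
    have h2 : Nat.card (F.obj (H.obj Y)) =
        Nat.card (F.obj (H.obj X)) + Nat.card (F.obj (H.obj Z)) := by
      rw [← card_fiber_eq_of_iso F e', card_fiber_coprod_eq_sum]
    have h3 : Nat.card (F.obj (H.obj X)) = Nat.card (F.obj (H.obj Y)) :=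
      card_fiber_eq_of_iso F (asIso (H.map i))
    have h4 : Nat.card (F.obj (H.obj Z)) = 0 := by omega
    have h5 : IsEmpty (F.obj (H.obj Z)) := by
      rcases Nat.card_eq_zero.mp h4 with h | h
      · exact h
      · exact absurd (inferInstance : Finite (F.obj (H.obj Z))) (not_finite_iff_infinite.mpr h)
    have h6 : IsEmpty (G.obj Z) := hinit Z h5
    have h7 : Nat.card (G.obj Z) = 0 := Nat.card_eq_zero.mpr (Or.inl h6)
    apply isIso_of_mono_of_eq_card_fiber G i
    omega
  refine ⟨?_⟩
  intro X Y f hf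
  have hδ : IsIso (H.map (pullback.diagonal f)) := by
    have h1 : IsIso (H.map (pullback.fst f f)) := by
      rw [← PreservesPullback.iso_hom_fst H f f]
      infer_instance
    have h2 : H.map (pullback.diagonal f) ≫ H.map (pullback.fst f f) = 𝟙 _ := by
      rw [← H.map_comp, pullback.diagonal_fst, H.map_id]
    haveI : IsIso (H.map (pullback.diagonal f) ≫ H.map (pullback.fst f f)) := by
      rw [h2]
      infer_instance
    exact IsIso.of_isIso_comp_right (H.map (pullback.diagonal f)) (H.map (pullback.fst f f))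
  haveI : Mono f := (pullback.isIso_diagonal_iff f).mp (hmono (pullback.diagonal f) hδ)
  exact hmono f hf

/-- The composite of a conservative exact functor with a fibre functor is a fibre functor. -/
lemma fiberFunctorComp {C : Type*} [Category* C] [GaloisCategory C]
    (H : C ⥤ D) [PreservesFiniteLimits H] [PreservesFiniteColimits H] [H.ReflectsIsomorphisms] :
    FiberFunctor (H ⋙ F) where
  preservesTerminalObjects := inferInstance
  preservesPullbacks := inferInstance
  preservesFiniteCoproducts := inferInstance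
  preservesEpis := inferInstance
  preservesQuotientsByFiniteGroups G _ _ := by
    choose G' hg hf he using Finite.exists_type_univ_nonempty_mulEquiv G
    haveI : PreservesColimitsOfShape (SingleObj G') H := inferInstance
    haveI : PreservesColimitsOfShape (SingleObj G) H :=
      Limits.preservesColimitsOfShape_of_equiv he.some.toSingleObjEquiv.symm H
    infer_instance
  reflectsIsos := inferInstance

/-- If the fundamental group of the target acts transitively on the fibres of `H X` for `X` Galois,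
then every automorphism of `H ⋙ F` is a whiskering. -/
lemma exists_whisker_eq {C : Type*} [Category* C] [GaloisCategory C] (H : C ⥤ D)
    [FiberFunctor (H ⋙ F)]
    (h : ∀ (X : C) [IsGalois X] (x y : F.obj (H.obj X)), ∃ σ : Aut F, σ • x = y)
    (τ : Aut (H ⋙ F)) : ∃ σ : Aut F, Functor.isoWhiskerLeft H σ = τ := by
  letI : ∀ X : C, MulAction (Aut F) ((H ⋙ F).obj X) := fun X =>
    inferInstanceAs (MulAction (Aut F) (F.obj (H.obj X)))
  haveI : IsNaturalSMul (H ⋙ F) (Aut F) :=
    ⟨fun g {X Y} f x => (mulAction_naturality F g (H.map f) x).symm⟩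
  haveI : ∀ X : C, ContinuousSMul (Aut F) ((H ⋙ F).obj X) := fun X =>
    continuousSMul_aut_fiber F (H.obj X)
  have hs := toAut_surjective_of_isPretransitive (H ⋙ F) (Aut F) (by
    intro X hX
    exact ⟨fun x y => h X x y⟩)
  obtain ⟨σ, hσ⟩ := hs τ
  refine ⟨σ, ?_⟩
  rw [← hσ]
  apply Iso.ext
  apply NatTrans.ext
  funext X
  apply FintypeCat.hom_ext
  intro y
  rfl

/-- The whiskering map on fundamental groups has closed range. -/
lemma isClosed_range_whisker {C : Type*} [Category* C] [GaloisCategory C] (H : C ⥤ D)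
    [FiberFunctor (H ⋙ F)] :
    IsClosed (Set.range (fun σ : Aut F => Functor.isoWhiskerLeft H σ) : Set (Aut (H ⋙ F))) := by
  letI : ∀ X : C, MulAction (Aut F) ((H ⋙ F).obj X) := fun X =>
    inferInstanceAs (MulAction (Aut F) (F.obj (H.obj X)))
  haveI : IsNaturalSMul (H ⋙ F) (Aut F) :=
    ⟨fun g {X Y} f x => (mulAction_naturality F g (H.map f) x).symm⟩
  haveI : ∀ X : C, ContinuousSMul (Aut F) ((H ⋙ F).obj X) := fun X =>
    continuousSMul_aut_fiber F (H.obj X)
  have hc : Continuous (toAut (H ⋙ F) (Aut F)) := toAut_continuous (H ⋙ F) (Aut F)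
  have heq : ((fun σ : Aut F => Functor.isoWhiskerLeft H σ) : Aut F → Aut (H ⋙ F)) =
      toAut (H ⋙ F) (Aut F) := by
    funext σ
    apply Iso.ext
    apply NatTrans.ext
    funext X
    apply FintypeCat.hom_ext
    intro y
    rfl
  rw [heq]
  exact (isCompact_range hc).isClosed

open scoped FintypeCatDiscrete in
/-- Every open subgroup of the fundamental group is the stabilizer of a point of a connected
object. -/
lemma exists_object_of_openSubgroup (V : Subgroup (Aut F)) (hV : IsOpen (V : Set (Aut F))) :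
    ∃ (X : D) (a : F.obj X), IsConnected X ∧ ∀ σ : Aut F, σ • a = a ↔ σ ∈ V := by
  classical
  haveI : Finite (Aut F ⧸ V) := V.quotient_finite_of_isOpen hV
  let n := Nat.card (Aut F ⧸ V)
  let e : (Aut F ⧸ V) ≃ ULift.{w} (Fin n) :=
    (Finite.equivFin (Aut F ⧸ V)).trans Equiv.ulift.symm
  letI iact : MulAction (Aut F) (ULift.{w} (Fin n)) := e.symm.mulAction (Aut F)
  have hsmul : ∀ (σ : Aut F) (q : Aut F ⧸ V), σ • e q = e (σ • q) := by
    intro σ q
    show e.symm.symm (σ • e.symm (e q)) = e (σ • q)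
    simp
  letI : TopologicalSpace (ULift.{w} (Fin n)) := ⊥
  haveI : DiscreteTopology (ULift.{w} (Fin n)) := ⟨rfl⟩
  have hcont : ContinuousSMul (Aut F) (ULift.{w} (Fin n)) := by
    rw [continuousSMul_iff_stabilizer_isOpen]
    intro x
    obtain ⟨q, rfl⟩ := e.surjective x
    obtain ⟨g, rfl⟩ := QuotientGroup.mk_surjective q
    have hset : (MulAction.stabilizer (Aut F) (e (g : Aut F ⧸ V)) : Set (Aut F)) =
        (fun σ : Aut F => g⁻¹ * σ⁻¹ * g) ⁻¹' (V : Set (Aut F)) := by
      ext σ
      simp only [SetLike.mem_coe, MulAction.mem_stabilizer_iff, Set.mem_preimage]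
      rw [hsmul, e.apply_eq_iff_eq, MulAction.Quotient.smul_mk, QuotientGroup.eq]
      simp [mul_inv_rev]
    rw [hset]
    exact hV.preimage ((continuous_const.mul continuous_inv).mul continuous_const)
  let Q : FintypeCat.{w} := FintypeCat.of (ULift.{w} (Fin n))
  letI : MulAction (Aut F) Q := iact
  let Y : ContAction FintypeCat.{w} (Aut F) :=
    ⟨Action.FintypeCat.ofMulAction (Aut F) Q, hcont⟩
  obtain ⟨X, ⟨iso⟩⟩ := Functor.EssSurj.mem_essImage (F := functorToContAction F) Y
  let isoA : (functorToAction F).obj X ≅ Action.FintypeCat.ofMulAction (Aut F) Q :=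
    (ObjectProperty.ι _).mapIso iso
  let φ : F.obj X → ULift.{w} (Fin n) := fun x => isoA.hom.hom x
  let ψ : ULift.{w} (Fin n) → F.obj X := fun q => isoA.inv.hom q
  have hψφ : ∀ x, ψ (φ x) = x := fun x =>
    ConcreteCategory.congr_hom (congrArg Action.Hom.hom isoA.hom_inv_id) x
  have hφψ : ∀ q, φ (ψ q) = q := fun q =>
    ConcreteCategory.congr_hom (congrArg Action.Hom.hom isoA.inv_hom_id) q
  have hφeq : ∀ (σ : Aut F) (x : F.obj X), φ (σ • x) = σ • φ x := fun σ x =>
    ConcreteCategory.congr_hom (isoA.hom.comm σ) x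
  let a : F.obj X := ψ (e ((1 : Aut F) : Aut F ⧸ V))
  have ha : φ a = e ((1 : Aut F) : Aut F ⧸ V) := hφψ _
  have hφinj : Function.Injective φ := Function.LeftInverse.injective hψφ
  refine ⟨X, a, ?_, ?_⟩
  · apply isConnected_of_transitive F X a
    intro y
    obtain ⟨q, hq⟩ := e.surjective (φ y)
    obtain ⟨g, rfl⟩ := QuotientGroup.mk_surjective q
    refine ⟨g, ?_⟩
    apply hφinj
    rw [hφeq, ha, hsmul, ← hq, MulAction.Quotient.smul_mk, smul_eq_mul, mul_one]
  · intro σ
    rw [← hφinj.eq_iff, hφeq, ha, hsmul, e.apply_eq_iff_eq, MulAction.Quotient.smul_mk,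
      smul_eq_mul, mul_one, QuotientGroup.eq, mul_one, inv_mem_iff]

open scoped Pointwise in
/-- Elements of the join with a normal subgroup are products. -/
lemma exists_mul_of_mem_sup_normal {G : Type*} [Group G] (R N : Subgroup G) [N.Normal] {x : G}
    (hx : x ∈ R ⊔ N) : ∃ r ∈ R, ∃ n ∈ N, r * n = x := by
  have hx' : x ∈ (R : Set G) * (N : Set G) := by
    rw [← Subgroup.mul_normal]
    exact hx
  obtain ⟨r, hr, m, hm, hrm⟩ := Set.mem_mul.mp hx'
  exact ⟨r, hr, m, hm, hrm⟩

/-- `Pi1X.autWhisker` is continuous. -/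
lemma continuous_autWhisker {C : Type u₁} [Category.{u₂} C] [GaloisCategory C] (H : C ⥤ D)
    [FiberFunctor (H ⋙ F)] : Continuous (Pi1X.autWhisker H F) := by
  letI : ∀ X : C, MulAction (Aut F) ((H ⋙ F).obj X) := fun X =>
    inferInstanceAs (MulAction (Aut F) (F.obj (H.obj X)))
  haveI : IsNaturalSMul (H ⋙ F) (Aut F) :=
    ⟨fun g {X Y} f x => (mulAction_naturality F g (H.map f) x).symm⟩
  haveI : ∀ X : C, ContinuousSMul (Aut F) ((H ⋙ F).obj X) := fun X =>
    continuousSMul_aut_fiber F (H.obj X)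
  have hc : Continuous (toAut (H ⋙ F) (Aut F)) := toAut_continuous (H ⋙ F) (Aut F)
  have heq : ⇑(Pi1X.autWhisker H F) = toAut (H ⋙ F) (Aut F) := by
    funext σ
    apply Iso.ext
    apply NatTrans.ext
    funext X
    apply FintypeCat.hom_ext
    intro y
    rfl
  rw [heq]
  exact hc

open scoped FintypeCatDiscrete in
/-- Every finite set with an action of the fundamental group with open stabilizers is the fibre of
an object. -/
lemma exists_object_of_action (Q : FintypeCat.{w}) [MulAction (Aut F) Q]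
    (hQ : ∀ q : Q, IsOpen (MulAction.stabilizer (Aut F) q : Set (Aut F))) :
    ∃ (X : D) (φ : F.obj X → Q), Function.Bijective φ ∧
      ∀ (σ : Aut F) (x : F.obj X), φ (σ • x) = σ • φ x := by
  have hcont : ContinuousSMul (Aut F) Q := continuousSMul_iff_stabilizer_isOpen.mpr hQ
  let Y : ContAction FintypeCat.{w} (Aut F) :=
    ⟨Action.FintypeCat.ofMulAction (Aut F) Q, hcont⟩
  obtain ⟨X, ⟨iso⟩⟩ := Functor.EssSurj.mem_essImage (F := functorToContAction F) Y
  let isoA : (functorToAction F).obj X ≅ Action.FintypeCat.ofMulAction (Aut F) Q :=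
    (ObjectProperty.ι _).mapIso iso
  refine ⟨X, fun x => isoA.hom.hom x, ?_, ?_⟩
  · refine Function.bijective_iff_has_inverse.mpr ⟨fun q => isoA.inv.hom q, ?_, ?_⟩
    · intro x
      exact ConcreteCategory.congr_hom (congrArg Action.Hom.hom isoA.hom_inv_id) x
    · intro q
      exact ConcreteCategory.congr_hom (congrArg Action.Hom.hom isoA.inv_hom_id) q
  · intro σ x
    exact ConcreteCategory.congr_hom (isoA.hom.comm σ) x

/-- Elements of the closed normal subgroup generated by elements acting trivially on a fibre act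
trivially. -/
lemma smul_eq_of_mem_closure_normalClosure (X' : D) (S : Set (Aut F))
    (hS : ∀ σ ∈ S, ∀ z : F.obj X', σ • z = z) (σ : Aut F)
    (hσ : σ ∈ (Subgroup.normalClosure S).topologicalClosure) (z : F.obj X') : σ • z = z := by
  let T : Subgroup (Aut F) := (MulAction.toPermHom (Aut F) (F.obj X')).ker
  have hmemT : ∀ τ : Aut F, τ ∈ T ↔ ∀ z : F.obj X', τ • z = z := by
    intro τ
    constructor
    · intro h z
      have h' : MulAction.toPermHom (Aut F) (F.obj X') τ = 1 := h
      exact congrArg (fun p : Equiv.Perm (F.obj X') => p z) h'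
    · intro h
      show MulAction.toPermHom (Aut F) (F.obj X') τ = 1
      exact Equiv.ext h
  have hTclosed : IsClosed (T : Set (Aut F)) := by
    have hset : (T : Set (Aut F)) = ⋂ z : F.obj X', {τ : Aut F | τ • z = z} := by
      ext τ
      rw [SetLike.mem_coe, hmemT, Set.mem_iInter]
      rfl
    rw [hset]
    exact isClosed_iInter (fun z =>
      (isClosed_discrete {z}).preimage (continuous_id.smul continuous_const))
  have h1 : Subgroup.normalClosure S ≤ T :=
    Subgroup.normalClosure_le_normal (fun τ hτ => (hmemT τ).mpr (hS τ hτ))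
  have h2 : (Subgroup.normalClosure S).topologicalClosure ≤ T :=
    Subgroup.topologicalClosure_minimal _ h1 hTclosed
  exact (hmemT σ).mp (h2 hσ) z

/-- If `u = autWhisker H F` is surjective and its kernel acts trivially on the fibre of `X'`, then
`X'` is in the essential image of `H`. -/
lemma exists_obj_iso_of_ker_trivial {C : Type u₁} [Category.{u₂} C] [GaloisCategory C]
    (H : C ⥤ D) [FiberFunctor (H ⋙ F)] (hs : Function.Surjective (Pi1X.autWhisker H F)) (X' : D)
    (hker : ∀ σ ∈ (Pi1X.autWhisker H F).ker, ∀ z : F.obj X', σ • z = z) :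
    ∃ X : C, Nonempty (H.obj X ≅ X') := by
  classical
  have hP : ∀ σ σ' : Aut F, Pi1X.autWhisker H F σ = Pi1X.autWhisker H F σ' →
      ∀ z : F.obj X', σ • z = σ' • z := by
    intro σ σ' h z
    have hmem : σ'⁻¹ * σ ∈ (Pi1X.autWhisker H F).ker := by
      rw [MonoidHom.mem_ker, map_mul, map_inv, h, inv_mul_cancel]
    have h1 := hker _ hmem z
    rw [mul_smul] at h1
    calc σ • z = σ' • (σ'⁻¹ • (σ • z)) := (smul_inv_smul σ' _).symm
      _ = σ' • z := by rw [h1]
  let sinv : Aut (H ⋙ F) → Aut F := Function.surjInv hs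
  have hsinv : ∀ τ, Pi1X.autWhisker H F (sinv τ) = τ := Function.surjInv_eq hs
  letI actΓ : MulAction (Aut (H ⋙ F)) (F.obj X') :=
    { smul := fun τ z => sinv τ • z
      one_smul := fun z => by
        show sinv 1 • z = z
        rw [hP (sinv 1) 1 (by rw [hsinv, map_one]) z, one_smul]
      mul_smul := fun τ₁ τ₂ z => by
        show sinv (τ₁ * τ₂) • z = sinv τ₁ • sinv τ₂ • z
        rw [hP (sinv (τ₁ * τ₂)) (sinv τ₁ * sinv τ₂) (by rw [hsinv, map_mul, hsinv, hsinv]) z,
          mul_smul] }
  have hcompat : ∀ (σ : Aut F) (z : F.obj X'), (Pi1X.autWhisker H F σ) • z = σ • z := by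
    intro σ z
    show sinv (Pi1X.autWhisker H F σ) • z = σ • z
    exact hP _ _ (hsinv _) z
  have hcontu : Continuous (Pi1X.autWhisker H F) := continuous_autWhisker F H
  have hopenmap : IsOpenMap (Pi1X.autWhisker H F) :=
    (Pi1X.autWhisker H F).isOpenMap_of_sigmaCompact hs hcontu
  have hopen : ∀ z : F.obj X',
      IsOpen (MulAction.stabilizer (Aut (H ⋙ F)) z : Set (Aut (H ⋙ F))) := by
    intro z
    have hset : (MulAction.stabilizer (Aut (H ⋙ F)) z : Set (Aut (H ⋙ F))) =
        (Pi1X.autWhisker H F) '' (MulAction.stabilizer (Aut F) z : Set (Aut F)) := by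
      ext τ
      constructor
      · intro hτ
        exact ⟨sinv τ, hτ, hsinv τ⟩
      · rintro ⟨σ, hσ, rfl⟩
        show (Pi1X.autWhisker H F σ) • z = z
        rw [hcompat]
        exact hσ
    rw [hset]
    exact hopenmap _ (stabilizer_isOpen (Aut F) z)
  obtain ⟨X, φ, hφbij, hφeq⟩ := exists_object_of_action (H ⋙ F) (F.obj X') hopen
  have hφeq' : ∀ (σ : Aut F) (x : F.obj (H.obj X)), φ (σ • x) = σ • φ x := by
    intro σ x
    have h1 := hφeq (Pi1X.autWhisker H F σ) x
    rw [hcompat] at h1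
    exact h1
  let ψ : (functorToAction F).obj (H.obj X) ⟶ (functorToAction F).obj X' :=
    { hom := FintypeCat.homMk φ
      comm := fun g => by
        apply FintypeCat.hom_ext
        intro (x : F.obj (H.obj X))
        exact hφeq' g x }
  let m : H.obj X ⟶ X' := (functorToAction F).preimage ψ
  have hm : F.map m = FintypeCat.homMk φ := by
    rw [← functorToAction_map, Functor.map_preimage]
    rfl
  have h1 : IsIso (F.map m) := by
    rw [hm]
    exact (ConcreteCategory.isIso_iff_bijective (FintypeCat.homMk φ)).mpr hφbij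
  have h2 : IsIso m := isIso_of_reflects_iso m F
  exact ⟨X, ⟨asIso m⟩⟩

/-- The kernel of `autWhisker H F` is contained in every closed normal subgroup `M` such that the
objects on whose fibres `M` acts trivially lie in the essential image of `H`. -/
lemma ker_autWhisker_le {C : Type u₁} [Category.{u₂} C] [GaloisCategory C] (H : C ⥤ D)
    [FiberFunctor (H ⋙ F)] (M : Subgroup (Aut F)) [M.Normal]
    (hMclosed : IsClosed (M : Set (Aut F)))
    (hM : ∀ X' : D, (∀ σ ∈ M, ∀ z : F.obj X', σ • z = z) → ∃ X : C, Nonempty (H.obj X ≅ X')) :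
    (Pi1X.autWhisker H F).ker ≤ M := by
  intro σ hσ
  by_contra hnot
  have hnhds : (fun g : Aut F => σ * g) ⁻¹' (M : Set (Aut F))ᶜ ∈ nhds (1 : Aut F) := by
    apply (continuous_const_mul σ).continuousAt
    have h1 : (fun x : Aut F => σ * x) 1 = σ := mul_one σ
    rw [h1]
    exact hMclosed.isOpen_compl.mem_nhds hnot
  obtain ⟨A, -, hA⟩ := (nhds_one_has_basis_stabilizers F).mem_iff.mp hnhds
  haveI hNnormal : (MulAction.stabilizer (Aut F) A.pt).Normal :=
    stabilizer_normal_of_isGalois F A.obj A.pt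
  have hNopen : IsOpen (MulAction.stabilizer (Aut F) A.pt : Set (Aut F)) :=
    stabilizer_isOpen (Aut F) A.pt
  have hVopen : IsOpen ((M ⊔ MulAction.stabilizer (Aut F) A.pt : Subgroup (Aut F)) :
      Set (Aut F)) :=
    Subgroup.isOpen_mono le_sup_right hNopen
  have hσV : σ ∉ M ⊔ MulAction.stabilizer (Aut F) A.pt := by
    intro hmem
    obtain ⟨r, hr, m, hm, hrm⟩ := exists_mul_of_mem_sup_normal _ _ hmem
    have h1 : σ * m⁻¹ ∈ (M : Set (Aut F))ᶜ := hA (inv_mem hm)
    apply h1
    rw [← hrm, mul_inv_cancel_right]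
    exact hr
  obtain ⟨X', a', hconnX', hstab⟩ := exists_object_of_openSubgroup F _ hVopen
  haveI := hconnX'
  have htriv : ∀ μ ∈ M, ∀ z : F.obj X', μ • z = z := by
    intro μ hμ z
    obtain ⟨g, rfl⟩ := MulAction.exists_smul_eq (Aut F) a' z
    have h1 : g⁻¹ * μ * g ∈ M := Subgroup.Normal.conj_mem' inferInstance μ hμ g
    have h2 : (g⁻¹ * μ * g) • a' = a' :=
      (hstab _).mpr ((show M ≤ M ⊔ MulAction.stabilizer (Aut F) A.pt from le_sup_left) h1)
    rw [mul_smul, mul_smul] at h2
    calc μ • g • a' = g • (g⁻¹ • (μ • g • a')) := (smul_inv_smul g _).symm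
      _ = g • a' := by rw [h2]
  obtain ⟨X, ⟨iso⟩⟩ := hM X' htriv
  have hσtriv : ∀ w : F.obj (H.obj X), σ • w = w := by
    intro w
    have h2 := congrArg (fun τ : Aut (H ⋙ F) => τ.hom.app X) (MonoidHom.mem_ker.mp hσ)
    exact ConcreteCategory.congr_hom h2 w
  have ha' : σ • a' = a' := by
    have h1 : F.map iso.hom (F.map iso.inv a') = a' := by
      rw [← FintypeCat.comp_apply, ← F.map_comp, iso.inv_hom_id, F.map_id, FintypeCat.id_apply]
    rw [← h1, mulAction_naturality, hσtriv]
  exact hσV ((hstab σ).mp ha')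

end Groth.Agent.H26.Galois
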