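import Mathlib
import Groth.Agent.H26.GaPts

/-!
# The rank-one commutation rule: formal consequences (SGA3 XX)
-/

set_option autoImplicit false
universe u

namespace Groth.Agent.H26.RankOne

section GroupLemmas

variable {H : Type*} [Group H]

theorem grp_inv (Px My Px' My' J : H) (key : Px⁻¹ * My⁻¹ = My'⁻¹ * J * Px'⁻¹) :
    My * Px = Px' * J⁻¹ * My' := by
  have e1 : My * Px = (Px⁻¹ * My⁻¹)⁻¹ := by group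
  rw [e1, key]
  group

theorem grp_8470 (Px1 My2 My1 Px2 J : H) (key : Px1 * My2 = My1⁻¹ * J * Px2⁻¹) :
    J = My1 * Px1 * My2 * Px2 := by
  have e1 : My1 * Px1 * My2 * Px2 = My1 * (Px1 * My2) * Px2 := by group
  rw [e1, key]
  group

theorem grp_8476 (A B C D E F M'' J P'' Ma Pb : H) (k1 : C * D = M'' * J * P'')
    (k2 : B * M'' * B⁻¹ = Ma) (k3 : E⁻¹ * P'' * E⁻¹⁻¹ = Pb) :
    (A * B * C) * (D * E * F) = (A * Ma) * (B * J * E) * (Pb * F) := by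
  subst k2 k3
  have e1 : (A * B * C) * (D * E * F) = A * B * (C * D) * E * F := by group
  rw [e1, k1]
  group

theorem grp_w (Py Px Mx My J Pc : H)
    (key : Py * Px⁻¹ * Mx⁻¹ = My⁻¹ * J * (Pc⁻¹ * Px)) (hc : Pc = J⁻¹ * Py * J⁻¹⁻¹) :
    Py * My * Py = J * (Px * Mx * Px) := by
  subst hc
  have e1 : Py * My * Py = Py * My * (Py * Px⁻¹ * Mx⁻¹) * (Mx * Px) := by group
  rw [e1, key]
  group

theorem grp_w' (Py My Px Mx J : H)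
    (key : Py⁻¹ * My⁻¹ * Py⁻¹ = J * (Px⁻¹ * Mx⁻¹ * Px⁻¹)) :
    Py * My * Py = Px * Mx * Px * J⁻¹ := by
  have e1 : Py * My * Py = (Py⁻¹ * My⁻¹ * Py⁻¹)⁻¹ := by group
  rw [e1, key]
  group

theorem grp_a (B Px Mx K : H)
    (E : B * Px * B⁻¹ * (B * Mx * B⁻¹) * (B * Px * B⁻¹) = K * (Px * Mx * Px)) :
    (Px * Mx * Px) * B * (Px * Mx * Px)⁻¹ = K⁻¹ * B := by
  have e1 : (Px * Mx * Px) * B * (Px * Mx * Px)⁻¹ =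
      (B * Px * B⁻¹ * (B * Mx * B⁻¹) * (B * Px * B⁻¹) * (Px * Mx * Px)⁻¹)⁻¹ * B := by group
  rw [e1, E]
  group

theorem grp_8449 (Px Mx Py My Jm : H) (W : Px * Mx * Px = Jm * (Py⁻¹ * My⁻¹ * Py⁻¹)) :
    (Px * Mx * Px) * (Py * My * Py) = Jm := by
  rw [W]
  group

end GroupLemmas

open CategoryTheory CategoryTheory.Limits MonoidalCategory CartesianMonoidalCategory MonObj AlgebraicGeometry
open Groth.Agent.H26.GaPts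

variable {S : Scheme.{u}} {G T : Over S} [GrpObj G] [GrpObj T] {i : T ⟶ G}
  {α : T ⟶ Red.Gm S} {pp pm : Red.Ga S ⟶ G} {av : Red.Gm S ⟶ T}

theorem conjP
    (hpp : ∀ (X : Over S) (t : X ⟶ T) (x : X ⟶ Red.Ga S), ∃ x' : X ⟶ Red.Ga S,
      x' ≫ pp = (t ≫ i) * (x ≫ pp) * (t ≫ i)⁻¹ ∧ Red.gaFn x' = Red.gmFn (t ≫ α) * Red.gaFn x)
    {X : Over S} (t : X ⟶ T) (x x' : X ⟶ Red.Ga S)
    (h : Red.gaFn x' = Red.gmFn (t ≫ α) * Red.gaFn x) :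
    (t ≫ i) * (x ≫ pp) * (t ≫ i)⁻¹ = x' ≫ pp := by
  obtain ⟨x'', h1, h2⟩ := hpp X t x
  rw [← h1, eq_of_gaFn_eq (h2.trans h.symm)]

theorem conjM
    (hpm : ∀ (X : Over S) (t : X ⟶ T) (y : X ⟶ Red.Ga S), ∃ y' : X ⟶ Red.Ga S,
      y' ≫ pm = (t ≫ i) * (y ≫ pm) * (t ≫ i)⁻¹ ∧ Red.gaFn y' * Red.gmFn (t ≫ α) = Red.gaFn y)
    {X : Over S} (t : X ⟶ T) (y y' : X ⟶ Red.Ga S)
    (h : Red.gaFn y' * Red.gmFn (t ≫ α) = Red.gaFn y) :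
    (t ≫ i) * (y ≫ pm) * (t ≫ i)⁻¹ = y' ≫ pm := by
  obtain ⟨y'', h1, h2⟩ := hpm X t y
  have e : Red.gaFn y'' = Red.gaFn y' :=
    (GmPts.isUnit_gmFn (t ≫ α)).mul_left_injective (h2.trans h.symm)
  rw [← h1, eq_of_gaFn_eq e]

theorem frule
    (hF : ∀ (X : Over S) (x y : X ⟶ Red.Ga S), IsUnit (1 + Red.gaFn x * Red.gaFn y) →
      ∃ (x' y' : X ⟶ Red.Ga S) (z : X ⟶ Red.Gm S), Red.gmFn z = 1 + Red.gaFn x * Red.gaFn y ∧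
        Red.gaFn x' * Red.gmFn z = Red.gaFn x ∧ Red.gaFn y' * Red.gmFn z = Red.gaFn y ∧
        (x ≫ pp) * (y ≫ pm) = (y' ≫ pm) * (z ≫ av ≫ i) * (x' ≫ pp))
    {X : Over S} (x y x' y' : X ⟶ Red.Ga S) (z : X ⟶ Red.Gm S)
    (hz : Red.gmFn z = 1 + Red.gaFn x * Red.gaFn y)
    (hx' : Red.gaFn x' * Red.gmFn z = Red.gaFn x) (hy' : Red.gaFn y' * Red.gmFn z = Red.gaFn y) :
    (x ≫ pp) * (y ≫ pm) = (y' ≫ pm) * (z ≫ av ≫ i) * (x' ≫ pp) := by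
  have hu : IsUnit (1 + Red.gaFn x * Red.gaFn y) := by
    rw [← hz]
    exact GmPts.isUnit_gmFn z
  obtain ⟨x'', y'', z'', h1, h2, h3, h4⟩ := hF X x y hu
  have ez : z'' = z := GmPts.gmFn_injective (h1.trans hz.symm)
  rw [ez] at h2 h3 h4
  have ex : x'' = x' :=
    eq_of_gaFn_eq ((GmPts.isUnit_gmFn z).mul_left_injective (h2.trans hx'.symm))
  have ey : y'' = y' :=
    eq_of_gaFn_eq ((GmPts.isUnit_gmFn z).mul_left_injective (h3.trans hy'.symm))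
  rw [h4, ex, ey]

/-- `w(zx) = α^*(z) w(x)`. -/
theorem wsmul [IsMonHom i] [IsMonHom α] [IsMonHom pp] [IsMonHom pm]
    (hpp : ∀ (X : Over S) (t : X ⟶ T) (x : X ⟶ Red.Ga S), ∃ x' : X ⟶ Red.Ga S,
      x' ≫ pp = (t ≫ i) * (x ≫ pp) * (t ≫ i)⁻¹ ∧ Red.gaFn x' = Red.gmFn (t ≫ α) * Red.gaFn x)
    (h2 : av ≫ α = (𝟙 (Red.Gm S)) ^ 2)
    (hF : ∀ (X : Over S) (x y : X ⟶ Red.Ga S), IsUnit (1 + Red.gaFn x * Red.gaFn y) →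
      ∃ (x' y' : X ⟶ Red.Ga S) (z : X ⟶ Red.Gm S), Red.gmFn z = 1 + Red.gaFn x * Red.gaFn y ∧
        Red.gaFn x' * Red.gmFn z = Red.gaFn x ∧ Red.gaFn y' * Red.gmFn z = Red.gaFn y ∧
        (x ≫ pp) * (y ≫ pm) = (y' ≫ pm) * (z ≫ av ≫ i) * (x' ≫ pp))
    {X : Over S} (x x' y y' : X ⟶ Red.Ga S) (z : X ⟶ Red.Gm S)
    (hx : Red.gaFn x' * Red.gaFn x = -1) (hy : Red.gaFn y' * Red.gaFn y = -1)
    (hyz : Red.gaFn y = Red.gmFn z * Red.gaFn x) :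
    (y ≫ pp) * (y' ≫ pm) * (y ≫ pp) = (z ≫ av ≫ i) * ((x ≫ pp) * (x' ≫ pm) * (x ≫ pp)) := by
  obtain ⟨c, hc1, hc2⟩ := hpp X ((z ≫ av)⁻¹) y
  have e : ((z ≫ av)⁻¹ ≫ α) = (z ^ 2)⁻¹ := by
    rw [GrpObj.inv_comp _ α, Category.assoc, h2, MonObj.comp_pow, Category.comp_id]
  obtain ⟨v, hvdef⟩ : ∃ v, v = Red.gmFn ((z ≫ av)⁻¹ ≫ α) := ⟨_, rfl⟩
  have hv : v * (Red.gmFn z * Red.gmFn z) = 1 := by
    rw [hvdef, e, ← GmPts.gmFn_mul, ← pow_two]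
    exact GmPts.gmFn_inv _
  rw [← hvdef] at hc2
  have hJ : ((z ≫ av)⁻¹ ≫ i) = (z ≫ av ≫ i)⁻¹ := by
    rw [GrpObj.inv_comp _ i, Category.assoc]
  rw [hJ] at hc1
  have hz : Red.gmFn z = 1 + Red.gaFn (y * x⁻¹) * Red.gaFn (x'⁻¹) := by
    simp only [gaFn_mul, gaFn_inv]
    linear_combination (Red.gaFn x') * hyz + (Red.gmFn z - 1) * hx
  have ha' : Red.gaFn (c⁻¹ * x) * Red.gmFn z = Red.gaFn (y * x⁻¹) := by
    simp only [gaFn_mul, gaFn_inv]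
    linear_combination (-(Red.gmFn z)) * hc2 + (-(Red.gmFn z * v + 1)) * hyz + (-(Red.gaFn x)) * hv
  have hb' : Red.gaFn (y'⁻¹) * Red.gmFn z = Red.gaFn (x'⁻¹) := by
    simp only [gaFn_inv]
    linear_combination (-(Red.gaFn y' * Red.gaFn x')) * hyz + (Red.gaFn x') * hy +
      (-(Red.gmFn z * Red.gaFn y')) * hx
  have key := frule hF (y * x⁻¹) (x'⁻¹) (c⁻¹ * x) (y'⁻¹) z hz ha' hb'
  simp only [MonObj.mul_comp _ _ pp, GrpObj.inv_comp _ pp, GrpObj.inv_comp _ pm] at key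
  exact grp_w _ _ _ _ _ _ key hc1

/-- `w(zx) = w(x) α^*(z)⁻¹`. -/
theorem wsmul' [IsMonHom i] [IsMonHom α] [IsMonHom pp] [IsMonHom pm]
    (hpp : ∀ (X : Over S) (t : X ⟶ T) (x : X ⟶ Red.Ga S), ∃ x' : X ⟶ Red.Ga S,
      x' ≫ pp = (t ≫ i) * (x ≫ pp) * (t ≫ i)⁻¹ ∧ Red.gaFn x' = Red.gmFn (t ≫ α) * Red.gaFn x)
    (h2 : av ≫ α = (𝟙 (Red.Gm S)) ^ 2)
    (hF : ∀ (X : Over S) (x y : X ⟶ Red.Ga S), IsUnit (1 + Red.gaFn x * Red.gaFn y) →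
      ∃ (x' y' : X ⟶ Red.Ga S) (z : X ⟶ Red.Gm S), Red.gmFn z = 1 + Red.gaFn x * Red.gaFn y ∧
        Red.gaFn x' * Red.gmFn z = Red.gaFn x ∧ Red.gaFn y' * Red.gmFn z = Red.gaFn y ∧
        (x ≫ pp) * (y ≫ pm) = (y' ≫ pm) * (z ≫ av ≫ i) * (x' ≫ pp))
    {X : Over S} (x x' y y' : X ⟶ Red.Ga S) (z : X ⟶ Red.Gm S)
    (hx : Red.gaFn x' * Red.gaFn x = -1) (hy : Red.gaFn y' * Red.gaFn y = -1)
    (hyz : Red.gaFn y = Red.gmFn z * Red.gaFn x) :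
    (y ≫ pp) * (y' ≫ pm) * (y ≫ pp) = ((x ≫ pp) * (x' ≫ pm) * (x ≫ pp)) * (z ≫ av ≫ i)⁻¹ := by
  have hx' : Red.gaFn x'⁻¹ * Red.gaFn x⁻¹ = -1 := by
    simp only [gaFn_inv, neg_mul_neg]
    exact hx
  have hy' : Red.gaFn y'⁻¹ * Red.gaFn y⁻¹ = -1 := by
    simp only [gaFn_inv, neg_mul_neg]
    exact hy
  have hyz' : Red.gaFn y⁻¹ = Red.gmFn z * Red.gaFn x⁻¹ := by
    simp only [gaFn_inv]
    rw [hyz, mul_neg]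
  have W := wsmul hpp h2 hF x⁻¹ x'⁻¹ y⁻¹ y'⁻¹ z hx' hy' hyz'
  simp only [GrpObj.inv_comp _ pp, GrpObj.inv_comp _ pm] at W
  exact grp_w' _ _ _ _ _ W

end Groth.Agent.H26.RankOne
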