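import Mathlib
import Groth.Prelude.Def_AlgSpRep

/-!
# Element-level description of "limit preserving" for the fibre presheaves `AlgSp.fiberFun`
-/

set_option autoImplicit false
universe u
open CategoryTheory CategoryTheory.Limits AlgebraicGeometry Opposite
open AlgSp

namespace H26RL

variable {S : Scheme.{u}} {F G : PSp S} (a : F ⟶ G) (T : Over S) (y : G.obj (op T))
variable {I : Type u} [SmallCategory I] [IsCofiltered I] (D : I ⥤ Over T.left) (c : Cone D)

theorem surj (h : Nonempty (IsColimit ((fiberFun a T y).mapCocone c.op)))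
    (x : (fiberFun a T y).obj (op c.pt)) :
    ∃ (i : I) (xi : (fiberFun a T y).obj (op (D.obj i))),
      (fiberFun a T y).map (c.π.app i).op xi = x := by
  obtain ⟨h⟩ := h
  obtain ⟨j, xj, hj⟩ := Types.jointly_surjective_of_isColimit h x
  exact ⟨j.unop, xj, hj⟩

theorem inj (h : Nonempty (IsColimit ((fiberFun a T y).mapCocone c.op))) (i : I)
    (x x' : (fiberFun a T y).obj (op (D.obj i)))
    (hx : (fiberFun a T y).map (c.π.app i).op x = (fiberFun a T y).map (c.π.app i).op x') :
    ∃ (j : I) (f : j ⟶ i),
      (fiberFun a T y).map (D.map f).op x = (fiberFun a T y).map (D.map f).op x' := by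
  obtain ⟨h⟩ := h
  obtain ⟨j, f, hf⟩ := (Types.FilteredColimit.isColimit_eq_iff' h (i := op i) x x').mp hx
  exact ⟨j.unop, f.unop, hf⟩

theorem mk
    (hs : ∀ x : (fiberFun a T y).obj (op c.pt), ∃ (i : I) (xi : (fiberFun a T y).obj (op (D.obj i))),
      (fiberFun a T y).map (c.π.app i).op xi = x)
    (hi : ∀ (i : I) (x x' : (fiberFun a T y).obj (op (D.obj i))),
      (fiberFun a T y).map (c.π.app i).op x = (fiberFun a T y).map (c.π.app i).op x' →
      ∃ (j : I) (f : j ⟶ i),
        (fiberFun a T y).map (D.map f).op x = (fiberFun a T y).map (D.map f).op x') :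
    Nonempty (IsColimit ((fiberFun a T y).mapCocone c.op)) := by
  refine ⟨Types.FilteredColimit.isColimitOf' _ _ ?_ ?_⟩
  · intro x
    obtain ⟨i, xi, h⟩ := hs x
    exact ⟨op i, xi, h.symm⟩
  · intro i x x' h
    obtain ⟨j, f, hf⟩ := hi i.unop x x' h
    exact ⟨op j, f.op, hf⟩

/-- restriction of the base section -/
theorem res_res {T' T'' : Over T.left} (g : T'' ⟶ T') :
    G.map ((Over.map T.hom).map g).op (G.map (overHom T T').op y) = G.map (overHom T T'').op y := by
  rw [← Functor.map_comp_apply, ← op_comp, map_comp_overHom]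

end H26RL
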