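import Mathlib
import Groth.Prelude.Def_AlgSpRep
import Groth.Agent.H26.RelLim

/-!
# Relative limit preservation along a system with a terminal index

If `a : F ⟶ G` is relatively limit preserving, `E : J ⥤ Over S` is a cofiltered system of affine schemes
with limit cone `e` and `J` has a terminal object `t`, then the fibres of `a` over a section
`y ∈ G (E t)` commute with the limit.
-/

set_option autoImplicit false
universe u
open CategoryTheory CategoryTheory.Limits AlgebraicGeometry Opposite
open AlgSp

namespace H26RL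

theorem map_iso_inj {S : Scheme.{u}} (F : PSp S) {X Y : Over S} (θ : X ≅ Y) (z z' : F.obj (op Y))
    (h : F.map θ.hom.op z = F.map θ.hom.op z') : z = z' := by
  have h1 := congrArg (F.map θ.inv.op) h
  rw [← Functor.map_comp_apply, ← Functor.map_comp_apply, ← op_comp, Iso.inv_hom_id, op_id] at h1
  exact ((FunctorToTypes.map_id_apply F z).symm.trans h1).trans (FunctorToTypes.map_id_apply F z')

section Term

variable {S : Scheme.{u}} {F G : PSp S} (a : F ⟶ G)
variable {J : Type u} [SmallCategory J] [IsCofiltered J] (E : J ⥤ Over S) (e : Cone E)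
variable {t : J} (ht : IsTerminal t)

/-- The diagram over `(E.obj t).left`. -/
noncomputable def dgm : J ⥤ Over (E.obj t).left where
  obj j := Over.mk (E.map (ht.from j)).left
  map {j k} g := Over.homMk (E.map g).left (by
    change (E.map g).left ≫ (E.map (ht.from k)).left = (E.map (ht.from j)).left
    rw [← Over.comp_left, ← E.map_comp, ht.hom_ext (g ≫ ht.from k) (ht.from j)])
  map_id j := by
    apply Over.OverMorphism.ext
    change (E.map (𝟙 j)).left = 𝟙 _
    rw [E.map_id]; rfl
  map_comp g h := by
    apply Over.OverMorphism.ext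
    change (E.map (g ≫ h)).left = (E.map g).left ≫ (E.map h).left
    rw [E.map_comp]; rfl

/-- The cone over `dgm`. -/
noncomputable def cn : Cone (dgm E ht) where
  pt := Over.mk (e.π.app t).left
  π :=
    { app := fun j => Over.homMk (e.π.app j).left (by
        change (e.π.app j).left ≫ (E.map (ht.from j)).left = (e.π.app t).left
        rw [← Over.comp_left, e.w])
      naturality := fun j k g => by
        apply Over.OverMorphism.ext
        change 𝟙 _ ≫ (e.π.app k).left = (e.π.app j).left ≫ (E.map g).left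
        rw [Category.id_comp, ← Over.comp_left, e.w] }

noncomputable def cnIsLimit (hc : IsLimit ((Over.forget S).mapCone e)) :
    IsLimit ((Over.forget (E.obj t).left).mapCone (cn E e ht)) := hc

/-- Comparison isomorphisms. -/
noncomputable def th (j : J) : (Over.map (E.obj t).hom).obj ((dgm E ht).obj j) ≅ E.obj j :=
  Over.isoMk (Iso.refl _) (by
    change 𝟙 _ ≫ (E.obj j).hom = (E.map (ht.from j)).left ≫ (E.obj t).hom
    rw [Category.id_comp, Over.w])

noncomputable def thPt : (Over.map (E.obj t).hom).obj (cn E e ht).pt ≅ e.pt :=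
  Over.isoMk (Iso.refl _) (by
    change 𝟙 _ ≫ e.pt.hom = (e.π.app t).left ≫ (E.obj t).hom
    rw [Category.id_comp, Over.w]
    rfl)

theorem M1 (j : J) : overHom (E.obj t) ((dgm E ht).obj j) = (th E ht j).hom ≫ E.map (ht.from j) := by
  apply Over.OverMorphism.ext
  change (E.map (ht.from j)).left = 𝟙 _ ≫ (E.map (ht.from j)).left
  rw [Category.id_comp]

theorem M2 : overHom (E.obj t) (cn E e ht).pt = (thPt E e ht).hom ≫ e.π.app t := by
  apply Over.OverMorphism.ext
  change (e.π.app t).left = 𝟙 _ ≫ (e.π.app t).left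
  rw [Category.id_comp]

theorem M3 (j : J) : (Over.map (E.obj t).hom).map ((cn E e ht).π.app j) ≫ (th E ht j).hom =
    (thPt E e ht).hom ≫ e.π.app j := by
  apply Over.OverMorphism.ext
  change (e.π.app j).left ≫ 𝟙 _ = 𝟙 _ ≫ (e.π.app j).left
  rw [Category.id_comp, Category.comp_id]

theorem M4 {j k : J} (g : j ⟶ k) : (Over.map (E.obj t).hom).map ((dgm E ht).map g) ≫ (th E ht k).hom =
    (th E ht j).hom ≫ E.map g := by
  apply Over.OverMorphism.ext
  change (E.map g).left ≫ 𝟙 _ = 𝟙 _ ≫ (E.map g).left
  rw [Category.id_comp, Category.comp_id]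

theorem term_surj (ha : IsRelLimitPreserving a) (hc : IsLimit ((Over.forget S).mapCone e))
    (hD : ∀ j, IsAffine (E.obj j).left) (hT : IsAffine e.pt.left)
    (y : G.obj (op (E.obj t))) (x : F.obj (op e.pt))
    (hx : a.app _ x = G.map (e.π.app t).op y) :
    ∃ (j : J) (xj : F.obj (op (E.obj j))),
      a.app _ xj = G.map (E.map (ht.from j)).op y ∧ F.map (e.π.app j).op xj = x := by
  have H := ha (E.obj t) y (dgm E ht) (cn E e ht) (cnIsLimit E e ht hc) (fun j => hD j) hT
  let xt : (fiberFun a (E.obj t) y).obj (op (cn E e ht).pt) :=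
    ⟨F.map (thPt E e ht).hom.op x, by
      rw [NatTrans.naturality_apply, hx, ← Functor.map_comp_apply, ← op_comp, ← M2]⟩
  obtain ⟨j, ξ, hξ⟩ := surj a (E.obj t) y (dgm E ht) (cn E e ht) H xt
  have hξ1 : F.map ((Over.map (E.obj t).hom).map ((cn E e ht).π.app j)).op ξ.1 =
      F.map (thPt E e ht).hom.op x := congrArg Subtype.val hξ
  have hξ2 : a.app _ ξ.1 = G.map (overHom (E.obj t) ((dgm E ht).obj j)).op y := ξ.2
  refine ⟨j, F.map (th E ht j).inv.op ξ.1, ?_, ?_⟩
  · rw [NatTrans.naturality_apply, hξ2, ← Functor.map_comp_apply, ← op_comp, M1, Iso.inv_hom_id_assoc]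
  · have h1 : e.π.app j ≫ (th E ht j).inv =
        (thPt E e ht).inv ≫ (Over.map (E.obj t).hom).map ((cn E e ht).π.app j) := by
      rw [Iso.comp_inv_eq, Category.assoc, M3, Iso.inv_hom_id_assoc]
    rw [← Functor.map_comp_apply, ← op_comp, h1, op_comp, Functor.map_comp_apply, hξ1,
      ← Functor.map_comp_apply, ← op_comp, Iso.inv_hom_id, op_id]
    exact FunctorToTypes.map_id_apply F x

theorem term_inj (ha : IsRelLimitPreserving a) (hc : IsLimit ((Over.forget S).mapCone e))
    (hD : ∀ j, IsAffine (E.obj j).left) (hT : IsAffine e.pt.left)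
    (y : G.obj (op (E.obj t))) (j : J) (x x' : F.obj (op (E.obj j)))
    (hx : a.app _ x = G.map (E.map (ht.from j)).op y)
    (hx' : a.app _ x' = G.map (E.map (ht.from j)).op y)
    (h : F.map (e.π.app j).op x = F.map (e.π.app j).op x') :
    ∃ (k : J) (g : k ⟶ j), F.map (E.map g).op x = F.map (E.map g).op x' := by
  have H := ha (E.obj t) y (dgm E ht) (cn E e ht) (cnIsLimit E e ht hc) (fun j => hD j) hT
  have key : ∀ w : F.obj (op (E.obj j)), a.app _ w = G.map (E.map (ht.from j)).op y →
      a.app _ (F.map (th E ht j).hom.op w) = G.map (overHom (E.obj t) ((dgm E ht).obj j)).op y := by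
    intro w hw
    rw [NatTrans.naturality_apply, hw, ← Functor.map_comp_apply, ← op_comp, ← M1]
  let ξ : (fiberFun a (E.obj t) y).obj (op ((dgm E ht).obj j)) := ⟨F.map (th E ht j).hom.op x, key x hx⟩
  let ξ' : (fiberFun a (E.obj t) y).obj (op ((dgm E ht).obj j)) := ⟨F.map (th E ht j).hom.op x', key x' hx'⟩
  have hres : ∀ w : F.obj (op (E.obj j)),
      F.map ((Over.map (E.obj t).hom).map ((cn E e ht).π.app j)).op (F.map (th E ht j).hom.op w) =
        F.map (thPt E e ht).hom.op (F.map (e.π.app j).op w) := by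
    intro w
    rw [← Functor.map_comp_apply, ← op_comp, M3, op_comp, Functor.map_comp_apply]
  have hξ : (fiberFun a (E.obj t) y).map ((cn E e ht).π.app j).op ξ =
      (fiberFun a (E.obj t) y).map ((cn E e ht).π.app j).op ξ' := by
    apply Subtype.ext
    change F.map ((Over.map (E.obj t).hom).map ((cn E e ht).π.app j)).op (F.map (th E ht j).hom.op x) =
      F.map ((Over.map (E.obj t).hom).map ((cn E e ht).π.app j)).op (F.map (th E ht j).hom.op x')
    rw [hres, hres, h]
  obtain ⟨k, g, hg⟩ := inj a (E.obj t) y (dgm E ht) (cn E e ht) H j ξ ξ' hξ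
  have hg1 : F.map ((Over.map (E.obj t).hom).map ((dgm E ht).map g)).op (F.map (th E ht j).hom.op x) =
      F.map ((Over.map (E.obj t).hom).map ((dgm E ht).map g)).op (F.map (th E ht j).hom.op x') :=
    congrArg Subtype.val hg
  refine ⟨k, g, map_iso_inj F (th E ht k) _ _ ?_⟩
  have hres2 : ∀ w : F.obj (op (E.obj j)),
      F.map (th E ht k).hom.op (F.map (E.map g).op w) =
        F.map ((Over.map (E.obj t).hom).map ((dgm E ht).map g)).op (F.map (th E ht j).hom.op w) := by
    intro w
    rw [← Functor.map_comp_apply, ← op_comp, ← M4, op_comp, Functor.map_comp_apply]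
  rw [hres2, hres2, hg1]

end Term

end H26RL
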