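import Mathlib
import Groth.Prelude.Def_SekSuwa2
import Groth.Prelude.Def_Mor2

set_option autoImplicit false
set_option linter.style.haveILetI false
universe u
open CategoryTheory AlgebraicGeometry
open Polynomial SekSuwa

noncomputable section

namespace H26SS

variable {R : Type u} [CommRing R] {lam : R} {N : ℕ}

theorem coeff_rhs (lam : R) (N k : ℕ) (hk : k ≠ 0) :
    ((1 + C lam * X : R[X]) ^ N - 1).coeff k = (N.choose k : R) * lam ^ k := by
  have e : (1 + C lam * X : R[X]) ^ N = ((1 + X : R[X]) ^ N).comp (C lam * X) := by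
    simp only [pow_comp, add_comp, one_comp, X_comp]
  rw [coeff_sub, e, comp_C_mul_X_coeff, coeff_one_add_X_pow, coeff_one, if_neg hk, sub_zero]

theorem psiPoly_coeff (h : DivCond lam N) (k : ℕ) (hk : k ≠ 0) :
    lam ^ N * (psiPoly lam N h).coeff k = (N.choose k : R) * lam ^ k := by
  have := congrArg (fun q => coeff q k) (psiPoly_spec h)
  simp only [coeff_C_mul] at this
  rw [this, coeff_rhs lam N k hk]

theorem psiPoly_natDegree_le (h : DivCond lam N) : (psiPoly lam N h).natDegree ≤ N := by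
  rw [natDegree_le_iff_coeff_eq_zero]
  intro k hk
  have e := psiPoly_coeff h k (by omega)
  rw [Nat.choose_eq_zero_of_lt hk, Nat.cast_zero, zero_mul] at e
  exact cancel_nzd h.pow_nzd (e.trans (mul_zero _).symm)

theorem psiPoly_coeff_N (h : DivCond lam N) (hN : 0 < N) : (psiPoly lam N h).coeff N = 1 := by
  have e := psiPoly_coeff h N hN.ne'
  rw [Nat.choose_self, Nat.cast_one, one_mul] at e
  exact cancel_nzd h.pow_nzd (e.trans (mul_one _).symm)

theorem psiPoly_monic (h : DivCond lam N) (hN : 0 < N) : (psiPoly lam N h).Monic :=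
  monic_of_natDegree_le_of_coeff_eq_one N (psiPoly_natDegree_le h) (psiPoly_coeff_N h hN)

theorem psiPoly_natDegree [Nontrivial R] (h : DivCond lam N) (hN : 0 < N) :
    (psiPoly lam N h).natDegree = N :=
  natDegree_eq_of_le_of_coeff_ne_zero (psiPoly_natDegree_le h)
    (by rw [psiPoly_coeff_N h hN]; exact one_ne_zero)

/-- `(1 + λ·root)^N = 1` in `R[X]/(P)`. -/
theorem root_rel (h : DivCond lam N) :
    (1 + lam • AdjoinRoot.root (psiPoly lam N h)) ^ N = 1 := by
  have e := aeval_psiPoly h (AdjoinRoot.root (psiPoly lam N h))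
  rw [AdjoinRoot.aeval_eq, AdjoinRoot.mk_self, mul_zero] at e
  rw [Algebra.smul_def]
  exact (sub_eq_zero.mp e.symm)

/-- The map from the coordinate ring of `G^(λ)` to `R[X]/(P)`. -/
def fwdA (h : DivCond lam N) (hN : 0 < N) : A R lam →ₐ[R] AdjoinRoot (psiPoly lam N h) :=
  A.lift R lam (AdjoinRoot.root _) ((1 + lam • AdjoinRoot.root _) ^ (N - 1))
    (by rw [mul_pow_sub_one hN.ne']; exact root_rel h)

theorem fwdA_t (h : DivCond lam N) (hN : 0 < N) : fwdA h hN A.t = AdjoinRoot.root _ :=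
  A.lift_t _ _ _

theorem fwdA_inv (h : DivCond lam N) (hN : 0 < N) :
    fwdA h hN A.inv = (1 + lam • AdjoinRoot.root _) ^ (N - 1) :=
  A.lift_inv _ _ _

theorem fwdA_kerGen (h : DivCond lam N) (hN : 0 < N) : fwdA h hN (kerGen lam N h) = 0 := by
  rw [kerGen, ← Polynomial.aeval_algHom_apply, fwdA_t, AdjoinRoot.aeval_eq, AdjoinRoot.mk_self]

/-- The map from the coordinate ring of `G_{λ,N}` to `R[X]/(P)`. -/
def fwd (h : DivCond lam N) (hN : 0 < N) : AK R lam N h →ₐ[R] AdjoinRoot (psiPoly lam N h) :=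
  Ideal.Quotient.liftₐ (kerIdeal lam N h) (fwdA h hN) (by
    intro z hz
    obtain ⟨c, rfl⟩ := Ideal.mem_span_singleton'.mp hz
    rw [map_mul, fwdA_kerGen, mul_zero])

theorem fwd_t (h : DivCond lam N) (hN : 0 < N) : fwd h hN AK.t = AdjoinRoot.root _ := by
  change fwdA h hN A.t = _
  exact fwdA_t h hN

theorem fwd_inv (h : DivCond lam N) (hN : 0 < N) :
    fwd h hN AK.inv = (1 + lam • AdjoinRoot.root _) ^ (N - 1) := by
  change fwdA h hN A.inv = _
  exact fwdA_inv h hN

/-- The map from `R[X]/(P)` to the coordinate ring of `G_{λ,N}`. -/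
def bwd (h : DivCond lam N) : AdjoinRoot (psiPoly lam N h) →ₐ[R] AK R lam N h :=
  AdjoinRoot.liftAlgHom _ (Algebra.ofId R _) AK.t
    ((Polynomial.aeval_def _ _).symm.trans AK.aeval_t)

theorem bwd_root (h : DivCond lam N) : bwd h (AdjoinRoot.root _) = AK.t :=
  AdjoinRoot.liftAlgHom_root _ _ _ _

theorem AK_u_mul_inv (h : DivCond lam N) : (1 + lam • (AK.t : AK R lam N h)) * AK.inv = 1 := by
  have := congrArg (AK.mkHom R lam N h) (A.u_mul_inv (R := R) (lam := lam))
  rw [map_mul, map_one, A.u, map_add, map_one, map_smul] at this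
  exact this

theorem AK_inv_eq (h : DivCond lam N) (hN : 0 < N) :
    (AK.inv : AK R lam N h) = (1 + lam • AK.t) ^ (N - 1) := by
  have e1 := AK_u_mul_inv h
  have e2 := AK.u_pow (R := R) (lam := lam) (N := N) (h := h)
  rw [← mul_pow_sub_one hN.ne'] at e2
  calc (AK.inv : AK R lam N h)
      = AK.inv * ((1 + lam • AK.t) * (1 + lam • AK.t) ^ (N - 1)) := by rw [e2, _root_.mul_one]
    _ = ((1 + lam • AK.t) * AK.inv) * (1 + lam • AK.t) ^ (N - 1) := by ring
    _ = _ := by rw [e1, _root_.one_mul]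

theorem bwd_fwd (h : DivCond lam N) (hN : 0 < N) :
    (bwd h).comp (fwd h hN) = AlgHom.id R _ := by
  apply AK.algHom_ext
  · rw [AlgHom.comp_apply, fwd_t, bwd_root]; rfl
  · rw [AlgHom.comp_apply, fwd_inv, map_pow, map_add, map_one, map_smul, bwd_root, ← AK_inv_eq h hN]
    rfl

theorem fwd_bwd (h : DivCond lam N) (hN : 0 < N) :
    (fwd h hN).comp (bwd h) = AlgHom.id R _ := by
  apply AdjoinRoot.algHom_ext
  rw [AlgHom.comp_apply, bwd_root, fwd_t]; rfl

/-- The coordinate ring of `G_{λ,N}` is `R[X]/(P_{λ,N})`. -/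
def equiv (h : DivCond lam N) (hN : 0 < N) : AK R lam N h ≃ₐ[R] AdjoinRoot (psiPoly lam N h) :=
  AlgEquiv.ofAlgHom (fwd h hN) (bwd h) (fwd_bwd h hN) (bwd_fwd h hN)

theorem finite_AK (h : DivCond lam N) (hN : 0 < N) : Module.Finite R (AK R lam N h) := by
  haveI : Module.Finite R (AdjoinRoot (psiPoly lam N h)) := (psiPoly_monic h hN).finite_adjoinRoot
  exact Module.Finite.equiv (equiv h hN).symm.toLinearEquiv

theorem free_AK (h : DivCond lam N) (hN : 0 < N) : Module.Free R (AK R lam N h) := by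
  haveI : Module.Free R (AdjoinRoot (psiPoly lam N h)) := (psiPoly_monic h hN).free_adjoinRoot
  exact Module.Free.of_equiv (equiv h hN).symm.toLinearEquiv

theorem fp_AK (h : DivCond lam N) (hN : 0 < N) : Algebra.FinitePresentation R (AK R lam N h) :=
  Algebra.FinitePresentation.equiv (equiv h hN).symm

theorem finrank_AK [Nontrivial R] (h : DivCond lam N) (hN : 0 < N) :
    Module.finrank R (AK R lam N h) = N := by
  rw [(equiv h hN).toLinearEquiv.finrank_eq, (AdjoinRoot.powerBasis' (psiPoly_monic h hN)).finrank,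
    AdjoinRoot.powerBasis'_dim, psiPoly_natDegree h hN]

theorem main (h : DivCond lam N) (hN : 0 < N) :
    Mor2.IsFinLocFreeOfDeg N (Spec.map (CommRingCat.ofHom (algebraMap R (AK R lam N h)))) := by
  haveI := finite_AK h hN
  haveI := free_AK h hN
  haveI := fp_AK h hN
  refine ⟨⟨?_, ?_, ?_⟩, ?_⟩
  · rw [IsFinite.SpecMap_iff]; exact RingHom.finite_algebraMap.mpr inferInstance
  · rw [Flat.SpecMap_iff]; exact RingHom.flat_algebraMap_iff.mpr inferInstance
  · rw [HasRingHomProperty.Spec_iff (P := @LocallyOfFinitePresentation)]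
    exact RingHom.finitePresentation_algebraMap.mpr inferInstance
  · intro y
    haveI : Nontrivial R := PrimeSpectrum.nonempty_iff_nontrivial.mp ⟨y⟩
    refine (Scheme.Hom.finrank_SpecMap_algebraMap R (AK R lam N h) y).trans ?_
    rw [Module.rankAtStalk_eq_finrank_of_free]
    change Module.finrank R (AK R lam N h) = N
    exact finrank_AK h hN

end H26SS
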